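import Mathlib
import Cfsg.Agent.TID.Defs
import Cfsg.Agent.Lib.Cores

/-!
# S4622: the passage to a quotient by a central `p'`-subgroup (helper31)

* `eq_of_not_dvd`, `not_dvd_of_max`: `p ∤ |C : D|` and maximal `p`-subgroups;
* `CQ p π`: `π` is onto with central kernel of order prime to `p`; `CQ.mem`, `CQ.exists_lift`, `CQ.mem_norm`, `CQ.card`;
* `boxQuot : BoxQuot`.
-/

set_option autoImplicit false

namespace Cfsg.Agent.TID.Box

open Cfsg
open scoped Pointwise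

universe u v

variable {p : ℕ} [hp : Fact p.Prime]

section max

variable {G : Type u} [Group G] [Finite G]

theorem eq_of_not_dvd {D Q C : Subgroup G} (h1 : D ≤ Q) (h2 : Q ≤ C) (hQ : IsPGroup p Q) (h : ¬ p ∣ D.relIndex C) :
    Q = D := by
  obtain ⟨n, hn⟩ := IsPGroup.iff_card.1 hQ
  have h3 : D.relIndex Q ∣ p ^ n := hn ▸ Subgroup.index_dvd_card _
  obtain ⟨k, -, hk⟩ := (Nat.dvd_prime_pow hp.out).1 h3
  have h4 := Subgroup.relIndex_mul_relIndex D Q C h1 h2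
  rcases Nat.eq_zero_or_pos k with rfl | hk0
  · rw [pow_zero, Subgroup.relIndex_eq_one] at hk
    exact le_antisymm hk h1
  · exact absurd (h4 ▸ Dvd.dvd.mul_right (hk ▸ dvd_pow_self p hk0.ne') _) h

theorem not_dvd_of_max {D C : Subgroup G} (hD : IsPGroup p D) (h1 : D ≤ C)
    (h : ∀ Q : Subgroup G, IsPGroup p Q → D ≤ Q → Q ≤ C → Q ≤ D) : ¬ p ∣ D.relIndex C := by
  obtain ⟨P, hP⟩ := (hD.comap_subtype (K := C)).exists_le_sylow
  have h2 := h ((P : Subgroup C).map C.subtype) (P.2.map _) (fun x hx => ⟨⟨x, h1 hx⟩, hP hx, rfl⟩)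
    (Subgroup.map_subtype_le _)
  have h3 : D.subgroupOf C = P := le_antisymm hP fun x hx => h2 ⟨x, hx, rfl⟩
  unfold Subgroup.relIndex
  rw [h3]
  exact P.not_dvd_index

end max

/-- `π` is onto, its kernel is central of order prime to `p` -/
structure CQ (p : ℕ) {G : Type u} {X : Type v} [Group G] [Group X] (π : G →* X) : Prop where
  surj : Function.Surjective π
  cen : π.ker ≤ Subgroup.center G
  cop : (Nat.card π.ker).Coprime p

variable {G : Type u} {X : Type v} [Group G] [Group X] [Finite G] {π : G →* X}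

theorem CQ.eq_of (h : CQ p π) {x y : G} {k l : ℕ} (hx : x ^ p ^ k = 1) (hy : y ^ p ^ l = 1) (he : π x = π y) : x = y := by
  have h1 : x⁻¹ * y ∈ π.ker := by rw [MonoidHom.mem_ker, map_mul, map_inv, he, inv_mul_cancel]
  have h2 : Commute x (x⁻¹ * y) := Subgroup.mem_center_iff.1 (h.cen h1) x
  have h3 : (x * (x⁻¹ * y)) ^ p ^ (k + l) = 1 := by
    rw [mul_inv_cancel_left, pow_add, mul_comm, pow_mul, hy, one_pow]
  rw [h2.mul_pow, pow_add, pow_mul, hx, one_pow, one_mul, ← pow_add] at h3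
  have h4 : (x⁻¹ * y) ^ Nat.card π.ker = 1 := congrArg Subtype.val (pow_card_eq_one' (x := (⟨_, h1⟩ : π.ker)))
  have h5 := pow_gcd_eq_one.2 ⟨h4, h3⟩
  rw [Nat.Coprime.pow_right _ h.cop, pow_one] at h5
  exact inv_mul_eq_one.1 h5

theorem CQ.mem (h : CQ p π) {D : Subgroup G} (hD : IsPGroup p D) {x : G} {k : ℕ} (hx : x ^ p ^ k = 1)
    (hm : π x ∈ D.map π) : x ∈ D := by
  obtain ⟨d, hd, he⟩ := hm
  obtain ⟨l, hl⟩ := hD ⟨d, hd⟩
  rw [← h.eq_of (congrArg Subtype.val hl) hx he]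
  exact hd

theorem CQ.le (h : CQ p π) {D Q : Subgroup G} (hD : IsPGroup p D) (hQ : IsPGroup p Q) (hm : Q.map π ≤ D.map π) :
    Q ≤ D := fun x hx => by
  obtain ⟨l, hl⟩ := hQ ⟨x, hx⟩
  exact h.mem hD (congrArg Subtype.val hl) (hm ⟨x, hx, rfl⟩)

theorem CQ.exists_lift (h : CQ p π) {Q : Subgroup X} (hQ : IsPGroup p Q) :
    ∃ P : Subgroup G, IsPGroup p P ∧ P.map π = Q := by
  have : Finite X := Finite.of_surjective π h.surj
  let f : Q.comap π →* Q := (π.comp (Q.comap π).subtype).codRestrict Q fun x => x.2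
  have hf : Function.Surjective f := by
    rintro ⟨y, hy⟩
    obtain ⟨x, rfl⟩ := h.surj y
    exact ⟨⟨x, hy⟩, rfl⟩
  obtain ⟨P⟩ : Nonempty (Sylow p (Q.comap π)) := inferInstance
  have h1 : ((P.mapSurjective hf : Sylow p Q) : Subgroup Q) = ⊤ :=
    ((P.mapSurjective hf).3 (hQ.to_subgroup ⊤) le_top).symm
  refine ⟨(P : Subgroup (Q.comap π)).map (Q.comap π).subtype, P.2.map _, le_antisymm ?_ fun y hy => ?_⟩
  · rintro _ ⟨_, ⟨x, -, rfl⟩, rfl⟩
    exact x.2
  · have h2 : (⟨y, hy⟩ : Q) ∈ ((P.mapSurjective hf : Sylow p Q) : Subgroup Q) := by rw [h1]; trivial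
    obtain ⟨x, hx, he⟩ := h2
    exact ⟨x, ⟨x, hx, rfl⟩, congrArg Subtype.val he⟩

theorem CQ.mem_norm (h : CQ p π) {D : Subgroup G} (hD : IsPGroup p D) {g : G} :
    π g ∈ Subgroup.normalizer ((D.map π : Subgroup X) : Set X) ↔ g ∈ Subgroup.normalizer (D : Set G) := by
  constructor
  · intro hg
    refine Subgroup.mem_normalizer_fintype fun x hx => ?_
    obtain ⟨l, hl⟩ := hD ⟨x, hx⟩
    refine h.mem hD (k := l) ?_ ?_
    · rw [conj_pow, show x ^ p ^ l = 1 from congrArg Subtype.val hl, mul_one, mul_inv_cancel]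
    · rw [map_mul, map_mul, map_inv]
      exact (Subgroup.mem_normalizer_iff.1 hg _).1 ⟨x, hx, rfl⟩
  · intro hg
    exact Subgroup.le_normalizer_map π ⟨g, hg, rfl⟩

theorem CQ.card (h : CQ p π) {D : Subgroup G} (hD : IsPGroup p D) : Nat.card (D.map π) = Nat.card D := by
  refine (Nat.card_congr (Equiv.ofBijective (π.subgroupMap D) ⟨fun a b he => ?_, π.subgroupMap_surjective D⟩)).symm
  obtain ⟨k, hk⟩ := hD a
  obtain ⟨l, hl⟩ := hD b
  exact Subtype.ext (h.eq_of (congrArg Subtype.val hk) (congrArg Subtype.val hl) (congrArg Subtype.val he))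

theorem CQ.ti (h : CQ p π) {D : Subgroup G} (hD : IsPGroup p D) (hT : TI D) : TI (D.map π) := by
  intro g hg
  obtain ⟨g, rfl⟩ := h.surj g
  have h1 := hT g fun h2 => hg ((h.mem_norm hD).2 h2)
  rw [eq_bot_iff]
  rintro x ⟨hx, _, ⟨d, hd, rfl⟩, rfl⟩
  obtain ⟨l, hl⟩ := hD ⟨d, hd⟩
  have h2 : g * d * g⁻¹ ∈ D := by
    refine h.mem hD (k := l) ?_ ?_
    · rw [conj_pow, show d ^ p ^ l = 1 from congrArg Subtype.val hl, mul_one, mul_inv_cancel]
    · rw [map_mul, map_mul, map_inv]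
      exact hx
  have h3 : g * d * g⁻¹ ∈ D ⊓ (MulAut.conj g • D) := ⟨h2, d, hd, rfl⟩
  rw [h1, Subgroup.mem_bot, mul_inv_eq_one, mul_eq_left] at h3
  rw [h3, map_one]
  exact Subgroup.mem_bot.2 (map_one _)

theorem CQ.rk2 (h : CQ p π) {D : Subgroup G} (hD : IsPGroup p D) (hr : Rk2 p D) : Rk2 p (D.map π) := by
  obtain ⟨V, h1, ⟨h2, h3⟩, h4⟩ := hr
  refine ⟨V.map π, Subgroup.map_mono h1, ⟨⟨⟨?_⟩⟩, ?_⟩, (h.card (hD.to_le h1)).trans h4⟩
  · rintro ⟨_, a, ha, rfl⟩ ⟨_, b, hb, rfl⟩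
    have h5 : a * b = b * a := congrArg Subtype.val (h2.is_comm.comm ⟨a, ha⟩ ⟨b, hb⟩)
    exact Subtype.ext (by change π a * π b = π b * π a; rw [← map_mul, h5, map_mul])
  · rintro _ ⟨a, ha, rfl⟩
    rw [← map_pow, h3 a ha, map_one]

theorem CQ.rad (h : CQ p π) {D : Subgroup G} (hD : IsPGroup p D) (hr : Rad p D) : Rad p (D.map π) := by
  intro Q hQ hn
  obtain ⟨P, hP, rfl⟩ := h.exists_lift hQ
  exact Subgroup.map_mono (hr P hP fun g hg => (h.mem_norm hP).1 (hn ((h.mem_norm hD).2 hg)))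

theorem CQ.defY (h : CQ p π) {D : Subgroup G} (hD : IsPGroup p D) (hy : DefY p D) : DefY p (D.map π) := by
  have : Finite X := Finite.of_surjective π h.surj
  obtain ⟨y, h1, h2, h3⟩ := hy
  have h4 : D.map π ≤ Subgroup.centralizer ({π y} : Set X) := by
    rintro _ ⟨d, hd, rfl⟩
    rw [Subgroup.mem_centralizer_singleton_iff, ← map_mul, Subgroup.mem_centralizer_singleton_iff.1 (h2 hd), map_mul]
  refine ⟨π y, fun h5 => h1 (h5.trans (orderOf_map_dvd π y)), h4, not_dvd_of_max (hD.map π) h4 fun Q hQ h5 h6 => ?_⟩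
  obtain ⟨P, hP, rfl⟩ := h.exists_lift hQ
  refine Subgroup.map_mono (eq_of_not_dvd (h.le hP hD h5) (fun x hx => ?_) hP h3).le
  obtain ⟨l, hl⟩ := hP ⟨x, hx⟩
  have h7 : x ^ p ^ l = 1 := congrArg Subtype.val hl
  have h8 : y * x * y⁻¹ = x := by
    refine h.eq_of (k := l) (by rw [conj_pow, h7, mul_one, mul_inv_cancel]) h7 ?_
    rw [map_mul, map_mul, map_inv, ← Subgroup.mem_centralizer_singleton_iff.1 (h6 ⟨x, hx, rfl⟩), mul_inv_cancel_right]
  rw [Subgroup.mem_centralizer_singleton_iff]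
  exact (mul_inv_eq_iff_eq_mul.1 h8).symm

theorem CQ.index (h : CQ p π) {D : Subgroup G} (hD : IsPGroup p D) (hi : ¬ p ∣ (D.map π).index) : ¬ p ∣ D.index := by
  have : Finite X := Finite.of_surjective π h.surj
  rw [← Subgroup.relIndex_top_right] at hi ⊢
  exact not_dvd_of_max hD le_top fun Q hQ h1 _ =>
    h.le hD hQ (eq_of_not_dvd (Subgroup.map_mono h1) le_top (hQ.map π) hi).le

theorem cq_core (hc : pPrimeCore p G ≤ Subgroup.center G) : CQ p (QuotientGroup.mk' (pPrimeCore p G)) where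
  surj := QuotientGroup.mk'_surjective _
  cen := by rw [QuotientGroup.ker_mk']; exact hc
  cop := by rw [QuotientGroup.ker_mk']; exact Lib.Cores.pPrimeCore_coprime p

/-- **BoxQuot** -/
theorem boxQuot : BoxQuot.{u} := by
  intro p _ G _ _ D hc hL hy
  have h := cq_core hc
  exact ⟨⟨hL.pgrp.map _, h.ti hL.pgrp hL.ti, h.rk2 hL.pgrp hL.rk, h.rad hL.pgrp hL.rad⟩, h.defY hL.pgrp hy,
    h.card hL.pgrp, h.index hL.pgrp⟩

end Cfsg.Agent.TID.Box
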