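import Mathlib
import Cfsg.Agent.TID.Defs
import Cfsg.Agent.TID.BlkRankOne
import Cfsg.Agent.H356.CommSup
import Cfsg.Agent.Blocks.SylowIn
import Cfsg.Agent.S0912

/-!
# S4622: the boxes `BoxSmall` and `BoxRad` (helper31)
-/

set_option autoImplicit false

namespace Cfsg.Agent.TID.Box

open Cfsg Cfsg.Agent.Blocks.Basic

universe u

variable {p : ℕ} [hp : Fact p.Prime] {G : Type u} [Group G] [Finite G]

/-- A noncyclic commutative `p`-group has rank at least two. -/
theorem rk2_of_comm {V : Subgroup G} (hV : IsPGroup p V) (hc : IsMulCommutative V) (hn : ¬ IsCyclic V) : Rk2 p V := by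
  by_contra hr
  have hcomm : ∀ a b : V, a * b = b * a := hc.is_comm.comm
  have key : ∀ H K : Subgroup V, Nat.card H = p → Nat.card K = p → H = K := by
    intro H K hH hK
    by_contra hne
    have h1 : Disjoint H K := by
      rw [disjoint_iff]
      have h2 : Nat.card ↥(H ⊓ K) ∣ p := hH ▸ Subgroup.card_dvd_of_le inf_le_left
      rcases (Nat.dvd_prime hp.out).1 h2 with h3 | h3
      · exact Subgroup.card_eq_one.1 h3
      · exact absurd ((Subgroup.eq_of_le_of_card_ge inf_le_left (by rw [h3, hH])).symm.trans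
          (Subgroup.eq_of_le_of_card_ge inf_le_right (by rw [h3, hK]))) hne
    have h2 := H356.CommSup.card_sup (fun a _ b _ => hcomm a b) h1
    refine hr ⟨(H ⊔ K).map V.subtype, Subgroup.map_subtype_le _, ⟨⟨⟨?_⟩⟩, ?_⟩, ?_⟩
    · rintro ⟨_, a, ha, rfl⟩ ⟨_, b, hb, rfl⟩
      exact Subtype.ext (congrArg (Subtype.val : V → G) (hcomm a b))
    · rintro _ ⟨a, ha, rfl⟩
      have hN : K.Normal := ⟨fun n hn g => by rwa [hcomm g n, mul_inv_cancel_right]⟩
      obtain ⟨x, hx, y, hy, rfl⟩ := Subgroup.mem_sup_of_normal_right.1 ha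
      have h3 : x ^ p = 1 := by
        have := pow_card_eq_one' (x := (⟨x, hx⟩ : H))
        rw [hH] at this
        exact congrArg Subtype.val this
      have h4 : y ^ p = 1 := by
        have := pow_card_eq_one' (x := (⟨y, hy⟩ : K))
        rw [hK] at this
        exact congrArg Subtype.val this
      rw [← map_pow, (show Commute x y from hcomm x y).mul_pow, h3, h4, mul_one, map_one]
    · rw [Subgroup.card_map_of_injective V.subtype_injective, h2, hH, hK, sq]
  rcases Cfsg.Agent.S0016.result p hV key with h | ⟨-, n, ⟨e⟩⟩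
  · exact hn h
  · have h1 : ∀ a b : QuaternionGroup (2 ^ n), a * b = b * a := fun a b => by
      rw [← e.apply_symm_apply a, ← e.apply_symm_apply b, ← map_mul, hcomm, map_mul]
    rcases Nat.eq_zero_or_pos n with rfl | hn0
    · have hc : IsCyclic (QuaternionGroup 1) := by
        refine ⟨⟨QuaternionGroup.xa 0, ?_⟩⟩
        have : ∀ x : QuaternionGroup 1, ∃ k : Fin 4, (QuaternionGroup.xa 0 : QuaternionGroup 1) ^ (k : ℕ) = x := by
          decide
        intro x
        obtain ⟨k, hk⟩ := this x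
        exact ⟨((k : ℕ) : ℤ), (zpow_natCast _ _).trans hk⟩
      have e' : V ≃* QuaternionGroup 1 := e
      exact hn (isCyclic_of_surjective e'.symm e'.symm.surjective)
    · have h2 := h1 (QuaternionGroup.a 1) (QuaternionGroup.xa 0)
      rw [QuaternionGroup.a_mul_xa, QuaternionGroup.xa_mul_a, QuaternionGroup.xa.injEq] at h2
      have h3 : ((2 : ℕ) : ZMod (2 * 2 ^ n)) = 0 := by
        push_cast
        linear_combination -h2
      rw [ZMod.natCast_eq_zero_iff] at h3
      have h4 := Nat.le_of_dvd (by norm_num) h3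
      have h5 : 2 ^ 1 ≤ 2 ^ n := Nat.pow_le_pow_right (by norm_num) hn0
      omega

/-- **BoxSmall** -/
theorem boxSmall : BoxSmall.{u} := by
  intro p _ G _ _ M B D h hD1 hr
  refine Blk.concl_rank_one h.modu h.blk h.dfc hD1 h.ti fun V hV hc => ?_
  by_contra hn
  obtain ⟨W, h1, h2⟩ := rk2_of_comm ((isPGroup_of_isDefectGroup h.dfc).to_le hV) hc hn
  exact hr ⟨W, h1.trans hV, h2⟩

/-- Defect groups are radical. -/
theorem rad_of {M : Ideal AlgInt} (hM : IsPModular p M) {B : Set (IrrCharacter G)} (hB : IsPBlock M B) {D : Subgroup G}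
    (hD : IsDefectGroup p M B D) : Rad p D := by
  intro Q hQ hn
  have hDp := isPGroup_of_isDefectGroup hD
  have hR : IsPGroup p ↥(D ⊔ Q) := hDp.to_sup_of_normal_right' hQ (Subgroup.le_normalizer.trans hn)
  obtain ⟨b, hb⟩ := Blk.exists_br hM hB hD
  have h1 := Cfsg.Agent.S0912.result p M hM b hb.1 _ (Blk.defect_br hM hD hb)
  have h2 : (D ⊔ Q).subgroupOf (Subgroup.normalizer (D : Set G)) ≤ pCore p (Subgroup.normalizer (D : Set G)) := by
    refine le_sSup ⟨⟨fun a ha g => ?_⟩, hR.comap_subtype⟩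
    rw [Subgroup.mem_subgroupOf] at ha ⊢
    have h3 : (D ⊔ Q).map (MulAut.conj (g : G)).toMonoidHom ≤ D ⊔ Q := by
      rw [Subgroup.map_sup]
      refine sup_le_sup ?_ ?_
      · rintro _ ⟨x, hx, rfl⟩
        exact (Subgroup.mem_normalizer_iff.1 g.2 x).1 hx
      · rintro _ ⟨x, hx, rfl⟩
        exact (Subgroup.mem_normalizer_iff.1 (hn g.2) x).1 hx
    exact h3 ⟨a, ha, rfl⟩
  have h3 := Blocks.SylowIn.eq_of_normalizer_inf_le hR le_sup_left fun x hx => h1 (h2 (x := ⟨x, hx.1⟩) hx.2)
  exact le_sup_right.trans h3.le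

/-- **BoxRad** -/
theorem boxRad : BoxRad.{u} := by
  intro p _ G _ _ M B D h
  refine ⟨isPGroup_of_isDefectGroup h.dfc, rad_of h.modu h.blk h.dfc, ?_⟩
  obtain ⟨g, hg, P, rfl⟩ := h.dfc
  refine ⟨g, H614.Spin.isPRegular_of_isDefectClass h.modu h.blk hg, Subgroup.map_subtype_le _, ?_⟩
  unfold Subgroup.relIndex
  rw [Subgroup.subgroupOf, Subgroup.comap_map_eq_self_of_injective (Subgroup.subtype_injective _)]
  exact P.not_dvd_index

end Cfsg.Agent.TID.Box
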