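import Mathlib
import Cfsg.Agent.TID.Defs
import Cfsg.Agent.TID.BlkCases
import Cfsg.Agent.S4819

/-!
# S4622: Sylow defect groups (helper31)

* `card_eq_syl`: `k(B) = k(b)` for a TI Sylow defect group (S4819 and the count);
* `sSq : SSq`.
-/

set_option autoImplicit false

namespace Cfsg.Agent.TID.Box

open Cfsg

universe u

/-- `k(B) = k(b)` for a TI Sylow defect group. -/
theorem card_eq_syl {p : ℕ} [Fact p.Prime] {G : Type u} [Group G] [Finite G] {M : Ideal AlgInt}
    {B : Set (IrrCharacter G)} {P : Sylow p G} (h : Hyp p M B (P : Subgroup G))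
    {b : Set (IrrCharacter (Blk.Nm (P : Subgroup G)))} (hb : IsInducedBlock M (Blk.Nm (P : Subgroup G)) b B) :
    Nat.card B = Nat.card b :=
  (Blk.card_eq_iff h.modu h.dfc h.ti hb).2 (Cfsg.Agent.S4819.result p M h.modu P h.ti B h.blk h.dfc b hb)

/-- **SSq** -/
theorem sSq : SSq.{u} := by
  intro p _ G _ _ M B P h hc
  obtain ⟨b, hb⟩ := Blk.exists_br h.modu h.blk h.dfc
  exact Blk.concl_sq_card h.modu h.dfc hc hb (card_eq_syl h hb)

end Cfsg.Agent.TID.Box
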